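import Groth.Agent.ExtPow.K875.PowSec

/-!
# Exterior powers of a twist by a line bundle

`nonempty_iso_twist`: `Λ^k (E ⊗ L) ≅ Λ^k E ⊗ L^{⊗ k}` for `E` finite locally free and `L` invertible.
-/

set_option autoImplicit false

universe u

open CategoryTheory CategoryTheory.Limits AlgebraicGeometry Opposite TopologicalSpace
open scoped TensorProduct
open Groth.Agent.Sga67.Sec Groth.Agent.Sga67.LocBasis Groth.Agent.Sga67.ExtSheaf
open Groth.Agent.Sga67.TensorOps K875.PowSec

namespace K875.ExtTwist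

variable {X : Scheme.{u}} {E L M N : X.Modules} {k : ℕ}

/-- The local isomorphism given by a generator `l` of `L`. -/
noncomputable def twistEquiv (φ : Phi k (CohB1.tensorMod E L) M) (ψ : Phi k E N)
    (V : X.affineOpens) (l : Sec L V.1) (hE : Function.Bijective (mulR E L l))
    (hN : Function.Bijective (mulR N (CohB1.tensorPow L k) (powSec l k))) :
    Sec M V.1 ≃ₗ[Γ(X, V.1)] Sec (CohB1.tensorMod N (CohB1.tensorPow L k)) V.1 :=
  φ V ≪≫ₗ (extEquiv k (LinearEquiv.ofBijective (mulR E L l) hE)).symm ≪≫ₗ (ψ V).symm ≪≫ₗ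
    LinearEquiv.ofBijective (mulR N (CohB1.tensorPow L k) (powSec l k)) hN

theorem twistEquiv_apply (φ : Phi k (CohB1.tensorMod E L) M) (ψ : Phi k E N)
    (V : X.affineOpens) (l : Sec L V.1) (hE : Function.Bijective (mulR E L l))
    (hN : Function.Bijective (mulR N (CohB1.tensorPow L k) (powSec l k)))
    (e : Fin k → Sec E V.1) :
    twistEquiv φ ψ V l hE hN
      ((φ V).symm (exteriorPower.ιMulti _ k (fun i => mulR E L l (e i)))) =
      mulR N (CohB1.tensorPow L k) (powSec l k) ((ψ V).symm (exteriorPower.ιMulti _ k e)) := by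
  have : (extEquiv k (LinearEquiv.ofBijective (mulR E L l) hE)).symm
      (exteriorPower.ιMulti _ k (fun i => mulR E L l (e i))) =
        exteriorPower.ιMulti _ k e := extEquiv_symm_ιMulti k (LinearEquiv.ofBijective (mulR E L l) hE) e
  rw [twistEquiv, LinearEquiv.trans_apply, LinearEquiv.trans_apply, LinearEquiv.trans_apply,
    LinearEquiv.apply_symm_apply, this]
  rfl

theorem res_mulR_powSec (N L : X.Modules) (k : ℕ) {V W : X.Opens} (h : W ≤ V) (l : Sec L V)
    (l' : Sec L W) (a : Γ(X, W)) (ha : res L h l = a • l') (n : Sec N V) :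
    res _ h (mulR N (CohB1.tensorPow L k) (powSec l k) n) =
      a ^ k • mulR N (CohB1.tensorPow L k) (powSec l' k) (res N h n) := by
  have h4 : res (CohB1.tensorPow L k) h (powSec l k) = a ^ k • powSec l' k := by
    rw [res_powSec, ha, powSec_smul]
  rw [res_mulR, h4]
  exact mulR_smul N (CohB1.tensorPow L k) (a ^ k) (powSec l' k) (res N h n)

theorem res_twistEquiv (φ : Phi k (CohB1.tensorMod E L) M) (hφ : PhiComp φ) (ψ : Phi k E N)
    (hψ : PhiComp ψ) {V W : X.affineOpens} (h : W.1 ≤ V.1) (l : Sec L V.1)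
    (hE : Function.Bijective (mulR E L l))
    (hN : Function.Bijective (mulR N (CohB1.tensorPow L k) (powSec l k))) (l' : Sec L W.1)
    (hE' : Function.Bijective (mulR E L l'))
    (hN' : Function.Bijective (mulR N (CohB1.tensorPow L k) (powSec l' k))) (a : Γ(X, W.1))
    (ha : res L h l = a • l') (s : Sec M V.1) :
    twistEquiv φ ψ W l' hE' hN' (res M h s) = res _ h (twistEquiv φ ψ V l hE hN s) := by
  refine phi_induction φ V (C := fun s => twistEquiv φ ψ W l' hE' hN' (res M h s) =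
    res _ h (twistEquiv φ ψ V l hE hN s)) ?_ ?_ ?_ ?_ s
  · simp only [map_zero]
  · intro x y hx hy
    rw [map_add, map_add, map_add, map_add, hx, hy]
  · intro a x hx
    rw [res_smul, map_smul, map_smul, res_smul, hx]
  · intro e
    obtain ⟨e, rfl⟩ : ∃ e' : Fin k → Sec E V.1, e = fun i => mulR E L l (e' i) := by
      choose e' he' using fun i => hE.2 (e i)
      exact ⟨e', funext fun i => (he' i).symm⟩
    have h1 : (fun j => res (CohB1.tensorMod E L) h (mulR E L l (e j))) =
        fun j => a • mulR E L l' (res E h (e j)) := by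
      funext j
      rw [res_mulR, ha, mulR_smul]
    have h2 : exteriorPower.ιMulti Γ(X, W.1) k
        (fun j => a • mulR E L l' (res E h (e j))) =
        a ^ k • exteriorPower.ιMulti Γ(X, W.1) k (fun j => mulR E L l' (res E h (e j))) := by
      refine (AlternatingMap.map_smul_univ _ (fun _ => a) _).trans ?_
      rw [Finset.prod_const, Finset.card_univ, Fintype.card_fin]
    have h3 := hφ V W h (fun i => mulR E L l (e i))
    rw [h1, h2, map_smul] at h3
    refine (congrArg (twistEquiv φ ψ W l' hE' hN') h3).trans ?_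
    refine Eq.trans ?_ (congrArg (res _ h) (twistEquiv_apply φ ψ V l hE hN e)).symm
    refine Eq.trans ?_ (res_mulR_powSec N L k h l l' a ha
      ((ψ V).symm (exteriorPower.ιMulti _ k e))).symm
    have h5 := hψ V W h e
    rw [map_smul]
    refine congrArg (a ^ k • ·) ?_
    refine (twistEquiv_apply φ ψ W l' hE' hN' (fun j => res E h (e j))).trans ?_
    exact congrArg (mulR N (CohB1.tensorPow L k) (powSec l' k)) h5.symm

/-- `Λ^k (E ⊗ L) ≅ Λ^k E ⊗ L^{⊗ k}`. -/
theorem nonempty_iso_twist (hE : FlatMod.IsFinLocFree E) (hL : FlatMod.IsFinLocFreeOfRank 1 L)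
    (hM : ExtPow.IsExtPow k (CohB1.tensorMod E L) M) (hN : ExtPow.IsExtPow k E N) :
    Nonempty (M ≅ CohB1.tensorMod N (CohB1.tensorPow L k)) := by
  obtain ⟨φ, hφ⟩ := exists_phi hM
  obtain ⟨ψ, hψ⟩ := exists_phi hN
  let 𝓑 := {p : (V : X.affineOpens) × Sec L V.1 // IsGen p.2 ∧
    Function.Bijective (mulR E L p.2) ∧
    Function.Bijective (mulR N (CohB1.tensorPow L k) (powSec p.2 k))}
  have hB : Opens.IsBasis (Set.range (fun p : 𝓑 => p.1.1.1)) := by
    rw [Opens.isBasis_iff_nbhd]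
    intro U x hx
    obtain ⟨V₁, h₁, hx₁, n₁, b₁, hb₁⟩ := exists_basis_nhd hE hx
    obtain ⟨V₂, hx₂, ⟨e⟩⟩ := hL x
    obtain ⟨l, hl⟩ := nonempty_restrict_iso_iff.mp ⟨e⟩
    have hl' : IsGen (l 0) := isGen_of_isLocBasis hl
    obtain ⟨_, ⟨W, rfl⟩, hxW, hW⟩ := Opens.isBasis_iff_nbhd.mp (affineBasis X)
      (show x ∈ V₁ ⊓ V₂ from ⟨hx₁, hx₂⟩)
    have hb := hb₁.restrict (hW.trans inf_le_left)
    have hl'' := hl'.restrict (hW.trans inf_le_right)
    exact ⟨W.1, ⟨⟨⟨W, res L (hW.trans inf_le_right) (l 0)⟩, hl'',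
      IsGen.mulR_bijective hb hl'', IsGen.mulR_bijective (isLocBasis_extPow ψ hψ hb)
        (hl''.powSec k)⟩, rfl⟩, hxW, (hW.trans inf_le_left).trans h₁⟩
  refine nonempty_iso_of_family hB M _
    (fun p => twistEquiv φ ψ p.1.1 p.1.2 p.2.2.1 p.2.2.2) ?_
  intro p q h s
  obtain ⟨a, ha⟩ := q.2.1.exists_smul (res L h p.1.2)
  exact res_twistEquiv φ hφ ψ hψ h p.1.2 p.2.2.1 p.2.2.2 q.1.2 q.2.2.1 q.2.2.2 a ha s

end K875.ExtTwist
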