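import Groth.Agent.ExtPow.K875.PowSec
import Mathlib.LinearAlgebra.Determinant
import Mathlib.LinearAlgebra.Matrix.Kronecker
import Mathlib.LinearAlgebra.Matrix.Basis
import Mathlib.Logic.Equiv.Fin.Basic

/-!
# The determinant of a tensor product

* `alt_eq_det_smul`: `g v = det_b v • g b` for `g` alternating in `rank M` variables;
* `alt_tensor`: the Kronecker version;
* `nonempty_det_tensor_iso`: `det (E ⊗ F) ≅ (det E)^{⊗ f} ⊗ (det F)^{⊗ e}`.
-/

set_option autoImplicit false

universe u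

open CategoryTheory CategoryTheory.Limits AlgebraicGeometry Opposite TopologicalSpace
open scoped TensorProduct
open Groth.Agent.Sga67.Sec Groth.Agent.Sga67.LocBasis Groth.Agent.Sga67.ExtSheaf
open Groth.Agent.Sga67.TensorOps K875.PowSec

namespace K875.DetTensor

section Alg

theorem alt_eq_det_smul {R M N ι : Type*} [CommRing R] [AddCommGroup M] [Module R M]
    [AddCommGroup N] [Module R N] [Fintype ι] [DecidableEq ι] (b : Module.Basis ι R M)
    (g : M [⋀^ι]→ₗ[R] N) (v : ι → M) : g v = b.det v • g b := by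
  have key : g = b.det.smulRight (g b) := by
    refine Module.Basis.ext_alternating b ?_
    intro σ hσ
    have hσ' : Function.Bijective σ := Finite.injective_iff_bijective.mp hσ
    let τ : Equiv.Perm ι := Equiv.ofBijective σ hσ'
    have h1 : (fun i => b (σ i)) = b ∘ τ := rfl
    have h2 : (b.det.smulRight (g b)) (b ∘ τ) = b.det (b ∘ τ) • g b := rfl
    rw [h1, h2, AlternatingMap.map_perm, AlternatingMap.map_perm, b.det_self]
    rcases Int.units_eq_one_or (Equiv.Perm.sign τ) with h | h <;> rw [h] <;> simp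
  conv_lhs => rw [key]
  rfl

theorem det_tmul {R M N ι κ : Type*} [CommRing R] [AddCommGroup M] [Module R M]
    [AddCommGroup N] [Module R N] [Fintype ι] [DecidableEq ι] [Fintype κ] [DecidableEq κ]
    (β : Module.Basis ι R M) (γ : Module.Basis κ R N) (v : ι → M) (w : κ → N) :
    (β.tensorProduct γ).det (fun p : ι × κ => v p.1 ⊗ₜ[R] w p.2) =
      β.det v ^ Fintype.card κ * γ.det w ^ Fintype.card ι := by
  rw [Module.Basis.det_apply, Module.Basis.det_apply, Module.Basis.det_apply,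
    ← Matrix.det_kronecker]
  congr 1
  ext ⟨i, j⟩ ⟨i', j'⟩
  rw [Module.Basis.toMatrix_apply, Module.Basis.tensorProduct_repr_tmul_apply,
    Matrix.kroneckerMap_apply, Module.Basis.toMatrix_apply, Module.Basis.toMatrix_apply,
    smul_eq_mul, mul_comm]

theorem alt_tensor {R M N P ι κ : Type*} [CommRing R] [AddCommGroup M] [Module R M]
    [AddCommGroup N] [Module R N] [AddCommGroup P] [Module R P] [Fintype ι] [DecidableEq ι]
    [Fintype κ] [DecidableEq κ] (β : Module.Basis ι R M) (γ : Module.Basis κ R N)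
    (g : (M ⊗[R] N) [⋀^ι × κ]→ₗ[R] P) (v : ι → M) (w : κ → N) :
    g (fun p => v p.1 ⊗ₜ[R] w p.2) =
      (β.det v ^ Fintype.card κ * γ.det w ^ Fintype.card ι) •
        g (fun p => β p.1 ⊗ₜ[R] γ p.2) := by
  have h1 : (fun p : ι × κ => β p.1 ⊗ₜ[R] γ p.2) = β.tensorProduct γ := by
    funext p
    rw [Module.Basis.tensorProduct_apply']
  rw [h1, alt_eq_det_smul (β.tensorProduct γ), det_tmul]

/-- The Kronecker version for `exteriorPower.ιMulti`. -/
theorem ιMulti_tensor {R M N P : Type*} [CommRing R] [AddCommGroup M] [Module R M]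
    [AddCommGroup N] [Module R N] [AddCommGroup P] [Module R P] {e f : ℕ}
    (β : Module.Basis (Fin e) R M) (γ : Module.Basis (Fin f) R N) (t : M ⊗[R] N →ₗ[R] P)
    (v : Fin e → M) (w : Fin f → N) :
    exteriorPower.ιMulti R (e * f)
      (fun k => t (v (finProdFinEquiv.symm k).1 ⊗ₜ[R] w (finProdFinEquiv.symm k).2)) =
      (β.det v ^ f * γ.det w ^ e) • exteriorPower.ιMulti R (e * f)
        (fun k => t (β (finProdFinEquiv.symm k).1 ⊗ₜ[R] γ (finProdFinEquiv.symm k).2)) := by
  let g : (M ⊗[R] N) [⋀^Fin e × Fin f]→ₗ[R] ⋀[R]^(e * f) P :=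
    ((exteriorPower.ιMulti R (e * f) (M := P)).compLinearMap t).domDomCongr finProdFinEquiv.symm
  have := alt_tensor β γ g v w
  rw [Fintype.card_fin, Fintype.card_fin] at this
  exact this

end Alg

variable {X : Scheme.{u}}

/-- The top wedge of a local basis is a generator. -/
theorem isGen_top {n : ℕ} {E L : X.Modules} (φ : Phi n E L) (hφ : PhiComp φ) {U : X.affineOpens}
    {b : Fin n → Sec E U.1} (hb : IsLocBasis b) :
    IsGen ((φ U).symm (exteriorPower.ιMulti Γ(X, U.1) n b)) := by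
  have h := isLocBasis_extPow φ hφ hb
  have hord : ∀ s : Fin n ↪o Fin n, (s : Fin n → Fin n) = id := by
    intro s
    have h1 : Function.Bijective s := Finite.injective_iff_bijective.mp s.injective
    have h2 : s = (RelEmbedding.refl _ : Fin n ↪o Fin n) := by
      have := Subsingleton.elim (RelIso.ofSurjective s h1.2) (RelIso.refl _)
      ext i
      have h3 := congrArg (fun t : Fin n ≃o Fin n => ((t i : Fin n) : ℕ)) this
      exact h3
    rw [h2]
    rfl
  have hsub : Subsingleton (Set.powersetCard (Fin n) n) := by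
    constructor
    intro s t
    apply Set.powersetCard.ofFinEmbEquiv.symm.injective
    apply DFunLike.coe_injective
    rw [hord, hord]
  let u0 : Set.powersetCard (Fin n) n :=
    Set.powersetCard.ofFinEmbEquiv (RelEmbedding.refl _ : Fin n ↪o Fin n)
  let : Unique (Set.powersetCard (Fin n) n) := { default := u0, uniq := fun _ => Subsingleton.elim _ _ }
  have h4 := isGen_of_isLocBasis h
  have h5 : exteriorPower.ιMulti_family Γ(X, U.1) n b (default : Set.powersetCard (Fin n) n) =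
      exteriorPower.ιMulti Γ(X, U.1) n b := by
    rw [exteriorPower.ιMulti_family]
    congr 1
    rw [hord]
    rfl
  rw [h5] at h4
  exact h4

/-- Transition of the top wedge. -/
theorem res_top {n : ℕ} {E L : X.Modules} (φ : Phi n E L) (hφ : PhiComp φ) {U V : X.affineOpens}
    (h : V.1 ≤ U.1) (b : Fin n → Sec E U.1) (β : Module.Basis (Fin n) Γ(X, V.1) (Sec E V.1)) :
    res L h ((φ U).symm (exteriorPower.ιMulti Γ(X, U.1) n b)) =
      β.det (fun i => res E h (b i)) • (φ V).symm (exteriorPower.ιMulti Γ(X, V.1) n β) := by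
  rw [hφ U V h b, alt_eq_det_smul β, map_smul]

theorem isLocBasis_prod {E F : X.Modules} {e f : ℕ} {U : X.Opens} {b : Fin e → Sec E U}
    (hb : IsLocBasis b) {c : Fin f → Sec F U} (hc : IsLocBasis c) :
    IsLocBasis (M := CohB1.tensorMod E F) (fun k : Fin (e * f) =>
      tau E F U (b (finProdFinEquiv.symm k).1 ⊗ₜ[Γ(X, U)] c (finProdFinEquiv.symm k).2)) :=
  (isLocBasis_tensor hb hc).reindex finProdFinEquiv.symm

/-- Transition of the top wedge of the tensor product. -/
theorem res_topTensor {e f : ℕ} {E F D : X.Modules} (φ : Phi (e * f) (CohB1.tensorMod E F) D)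
    (hφ : PhiComp φ) {U V : X.affineOpens} (h : V.1 ≤ U.1) (b : Fin e → Sec E U.1)
    (c : Fin f → Sec F U.1) (β : Module.Basis (Fin e) Γ(X, V.1) (Sec E V.1))
    (γ : Module.Basis (Fin f) Γ(X, V.1) (Sec F V.1)) :
    res D h ((φ U).symm (exteriorPower.ιMulti Γ(X, U.1) (e * f) (fun k : Fin (e * f) =>
      tau E F U.1 (b (finProdFinEquiv.symm k).1 ⊗ₜ[Γ(X, U.1)] c (finProdFinEquiv.symm k).2)))) =
      (β.det (fun i => res E h (b i)) ^ f * γ.det (fun i => res F h (c i)) ^ e) •
        (φ V).symm (exteriorPower.ιMulti Γ(X, V.1) (e * f) (fun k : Fin (e * f) =>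
          tau E F V.1 (β (finProdFinEquiv.symm k).1 ⊗ₜ[Γ(X, V.1)]
            γ (finProdFinEquiv.symm k).2))) := by
  rw [hφ U V h]
  have h1 : (fun k : Fin (e * f) => res (CohB1.tensorMod E F) h
      (tau E F U.1 (b (finProdFinEquiv.symm k).1 ⊗ₜ[Γ(X, U.1)] c (finProdFinEquiv.symm k).2))) =
      fun k : Fin (e * f) => tau E F V.1 (res E h (b (finProdFinEquiv.symm k).1) ⊗ₜ[Γ(X, V.1)]
        res F h (c (finProdFinEquiv.symm k).2)) := by
    funext k
    rw [← tau_tres, tres_tmul]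
  rw [h1]
  have h2 := ιMulti_tensor β γ (tau E F V.1) (fun i => res E h (b i)) (fun i => res F h (c i))
  refine (congrArg (φ V).symm h2).trans ?_
  exact map_smul _ _ _

theorem mulR_powSec_smul (A B : X.Modules) (e f : ℕ) {V : X.Opens} (x y : Γ(X, V)) (a : Sec A V)
    (b : Sec B V) :
    mulR (CohB1.tensorPow A f) (CohB1.tensorPow B e) (powSec (y • b) e) (powSec (x • a) f) =
      (x ^ f * y ^ e) • mulR (CohB1.tensorPow A f) (CohB1.tensorPow B e) (powSec b e)
        (powSec a f) := by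
  rw [powSec_smul, powSec_smul, mulR_smul]
  refine (congrArg (y ^ e • ·) (map_smul (mulR (CohB1.tensorPow A f) (CohB1.tensorPow B e)
    (powSec b e)) (x ^ f) (powSec a f))).trans ?_
  refine (smul_smul (y ^ e) (x ^ f) _).trans ?_
  rw [mul_comm]

theorem res_mulR_powSec_powSec (A B : X.Modules) (e f : ℕ) {U V : X.Opens} (h : V ≤ U)
    {x y : Γ(X, V)} {a : Sec A U} {b : Sec B U} {a' : Sec A V} {b' : Sec B V}
    (ha : res A h a = x • a') (hb : res B h b = y • b') :
    res _ h (mulR (CohB1.tensorPow A f) (CohB1.tensorPow B e) (powSec b e) (powSec a f)) =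
      (x ^ f * y ^ e) • mulR (CohB1.tensorPow A f) (CohB1.tensorPow B e) (powSec b' e)
        (powSec a' f) := by
  refine (res_mulR _ _ h _ _).trans ?_
  rw [res_powSec, res_powSec, ha, hb]
  exact mulR_powSec_smul A B e f x y a' b'

/-- The generator of the left-hand side. -/
noncomputable def genL {e f : ℕ} {E F D : X.Modules} (φ : Phi (e * f) (CohB1.tensorMod E F) D)
    (U : X.affineOpens) (b : Fin e → Sec E U.1) (c : Fin f → Sec F U.1) : Sec D U.1 :=
  (φ U).symm (exteriorPower.ιMulti Γ(X, U.1) (e * f) (fun k : Fin (e * f) =>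
      tau E F U.1 (b (finProdFinEquiv.symm k).1 ⊗ₜ[Γ(X, U.1)] c (finProdFinEquiv.symm k).2)))

/-- The generator of the right-hand side. -/
noncomputable def genR {e f : ℕ} {E F DE DF : X.Modules} (φE : Phi e E DE) (φF : Phi f F DF)
    (U : X.affineOpens) (b : Fin e → Sec E U.1) (c : Fin f → Sec F U.1) :
    Sec (CohB1.tensorMod (CohB1.tensorPow DE f) (CohB1.tensorPow DF e)) U.1 :=
  mulR (CohB1.tensorPow DE f) (CohB1.tensorPow DF e)
      (powSec ((φF U).symm (exteriorPower.ιMulti Γ(X, U.1) f c)) e)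
      (powSec ((φE U).symm (exteriorPower.ιMulti Γ(X, U.1) e b)) f)

theorem isGen_genL {e f : ℕ} {E F D : X.Modules} (φ : Phi (e * f) (CohB1.tensorMod E F) D)
    (hφ : PhiComp φ) {U : X.affineOpens} {b : Fin e → Sec E U.1} {c : Fin f → Sec F U.1}
    (hb : IsLocBasis b) (hc : IsLocBasis c) : IsGen (genL φ U b c) :=
  isGen_top φ hφ (isLocBasis_prod hb hc)

theorem isGen_genR {e f : ℕ} {E F DE DF : X.Modules} (φE : Phi e E DE) (hφE : PhiComp φE)
    (φF : Phi f F DF) (hφF : PhiComp φF) {U : X.affineOpens} {b : Fin e → Sec E U.1}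
    {c : Fin f → Sec F U.1} (hb : IsLocBasis b) (hc : IsLocBasis c) :
    IsGen (genR φE φF U b c) :=
  ((isGen_top φE hφE hb).powSec f).tensor ((isGen_top φF hφF hc).powSec e)

theorem exists_transition {e f : ℕ} {E F D DE DF : X.Modules}
    (φ : Phi (e * f) (CohB1.tensorMod E F) D) (hφ : PhiComp φ)
    (φE : Phi e E DE) (hφE : PhiComp φE) (φF : Phi f F DF) (hφF : PhiComp φF)
    {U V : X.affineOpens} (h : V.1 ≤ U.1) (b : Fin e → Sec E U.1) (c : Fin f → Sec F U.1)
    {b' : Fin e → Sec E V.1} {c' : Fin f → Sec F V.1} (hb' : IsLocBasis b')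
    (hc' : IsLocBasis c') : ∃ a : Γ(X, V.1), res D h (genL φ U b c) = a • genL φ V b' c' ∧
      res _ h (genR φE φF U b c) = a • genR φE φF V b' c' := by
  let β := hb'.basis (le_refl V.1)
  let γ := hc'.basis (le_refl V.1)
  have hβ : (β : Fin e → Sec E V.1) = b' := by
    funext i
    exact (IsLocBasis.basis_apply _ _ _).trans (res_self E _ _)
  have hγ : (γ : Fin f → Sec F V.1) = c' := by
    funext i
    exact (IsLocBasis.basis_apply _ _ _).trans (res_self F _ _)
  have h1 := res_topTensor φ hφ h b c β γ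
  have h2 := res_mulR_powSec_powSec DE DF e f h (res_top φE hφE h b β) (res_top φF hφF h c γ)
  rw [hβ, hγ] at h1 h2
  exact ⟨_, h1, h2⟩

/-- `det (E ⊗ F) ≅ (det E)^{⊗ f} ⊗ (det F)^{⊗ e}`. -/
theorem nonempty_det_tensor_iso {E F : X.Modules} {e f : ℕ}
    (hE : FlatMod.IsFinLocFreeOfRank e E) (hF : FlatMod.IsFinLocFreeOfRank f F)
    {DE DF D : X.Modules} (hDE : ExtPow.IsExtPow e E DE) (hDF : ExtPow.IsExtPow f F DF)
    (hD : ExtPow.IsExtPow (e * f) (CohB1.tensorMod E F) D) :
    Nonempty (D ≅ CohB1.tensorMod (CohB1.tensorPow DE f) (CohB1.tensorPow DF e)) := by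
  obtain ⟨φE, hφE⟩ := exists_phi hDE
  obtain ⟨φF, hφF⟩ := exists_phi hDF
  obtain ⟨φ, hφ⟩ := exists_phi hD
  let 𝓑 := {p : (V : X.affineOpens) × ((Fin e → Sec E V.1) × (Fin f → Sec F V.1)) //
    IsLocBasis p.2.1 ∧ IsLocBasis p.2.2}
  have hB : Opens.IsBasis (Set.range (fun p : 𝓑 => p.1.1.1)) := by
    rw [Opens.isBasis_iff_nbhd]
    intro U x hx
    obtain ⟨V₁, hx₁, ⟨i₁⟩⟩ := hE x
    obtain ⟨b, hb⟩ := nonempty_restrict_iso_iff.mp ⟨i₁⟩
    obtain ⟨V₂, hx₂, ⟨i₂⟩⟩ := hF x
    obtain ⟨c, hc⟩ := nonempty_restrict_iso_iff.mp ⟨i₂⟩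
    obtain ⟨_, ⟨W, rfl⟩, hxW, hW⟩ := Opens.isBasis_iff_nbhd.mp (affineBasis X)
      (show x ∈ U ⊓ (V₁ ⊓ V₂) from ⟨hx, hx₁, hx₂⟩)
    exact ⟨W.1, ⟨⟨⟨W, _, _⟩, hb.restrict (hW.trans (inf_le_right.trans inf_le_left)),
      hc.restrict (hW.trans (inf_le_right.trans inf_le_right))⟩, rfl⟩, hxW, hW.trans inf_le_left⟩
  exact nonempty_iso_of_gens hB _ _
    (fun p => genL φ p.1.1 p.1.2.1 p.1.2.2)
    (fun p => genR φE φF p.1.1 p.1.2.1 p.1.2.2)
    (fun p => isGen_genL φ hφ p.2.1 p.2.2)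
    (fun p => isGen_genR φE hφE φF hφF p.2.1 p.2.2)
    (fun p q h => exists_transition φ hφ φE hφE φF hφF h p.1.2.1 p.1.2.2 q.2.1 q.2.2)

end K875.DetTensor
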