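import Groth.Agent.Sga67.TensorOps

/-!
# Powers of sections, generators of line bundles, gluing isomorphisms

* `mulR N L l : Sec N V → Sec (N ⊗ L) V`, `n ↦ n ⊗ l`, bijective when `l` is a generator of `L`;
* `powSec l n : Sec (L^{⊗ n}) V`, the `n`-th tensor power of a section; `res_powSec`, `powSec_smul`,
  `IsGen.powSec`;
* `nonempty_iso_of_family`: an isomorphism from compatible isomorphisms over a basis of opens;
* `nonempty_iso_of_gens`: an isomorphism of line bundles from generators with the same transition functions.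
-/

set_option autoImplicit false

universe u

open CategoryTheory CategoryTheory.Limits AlgebraicGeometry Opposite TopologicalSpace
open scoped TensorProduct
open Groth.Agent.Sga67.Sec Groth.Agent.Sga67.LocBasis Groth.Agent.Sga67.ExtSheaf
open Groth.Agent.Sga67.TensorOps

namespace K875.PowSec

variable {X : Scheme.{u}}

/-- Gluing compatible isomorphisms over a basis of opens. -/
theorem nonempty_iso_of_family {ι : Type*} {B : ι → X.Opens} (hB : Opens.IsBasis (Set.range B))
    (M N : X.Modules) (Φ : ∀ i, Sec M (B i) ≃ₗ[Γ(X, B i)] Sec N (B i))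
    (hΦ : ∀ i j (h : B j ≤ B i) (s : Sec M (B i)), Φ j (res M h s) = res N h (Φ i s)) :
    Nonempty (M ≅ N) := by
  obtain ⟨f, hf⟩ := exists_hom_of_basis' hB M N (fun i => (Φ i).toLinearMap) hΦ
  have : IsIso f := isIso_of_bijective f (by
    intro x U hx
    obtain ⟨_, ⟨i, rfl⟩, hxV, hV⟩ := Opens.isBasis_iff_nbhd.mp hB hx
    refine ⟨B i, hV, hxV, ?_⟩
    have : (appS f (B i) : _ → _) = Φ i := funext (fun s => hf i s)
    rw [this]
    exact (Φ i).bijective)
  exact ⟨asIso f⟩

/-- Multiplication by a section of `L`. -/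
noncomputable def mulR (N L : X.Modules) {V : X.Opens} (l : Sec L V) :
    Sec N V →ₗ[Γ(X, V)] Sec (CohB1.tensorMod N L) V :=
  (tau N L V) ∘ₗ ((TensorProduct.mk Γ(X, V) (Sec N V) (Sec L V)).flip l)

theorem mulR_apply (N L : X.Modules) {V : X.Opens} (l : Sec L V) (n : Sec N V) :
    mulR N L l n = tau N L V (n ⊗ₜ[Γ(X, V)] l) := rfl

theorem res_mulR (N L : X.Modules) {V V' : X.Opens} (h : V' ≤ V) (l : Sec L V) (n : Sec N V) :
    res _ h (mulR N L l n) = mulR N L (res L h l) (res N h n) := by
  rw [mulR_apply, ← tau_tres, tres_tmul]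
  rfl

theorem mulR_smul (N L : X.Modules) {V : X.Opens} (a : Γ(X, V)) (l : Sec L V) (n : Sec N V) :
    mulR N L (a • l) n = a • mulR N L l n := by
  rw [mulR_apply, mulR_apply, TensorProduct.tmul_smul]
  exact (tau N L V).map_smul _ _

/-- A generator of an invertible module. -/
def IsGen {L : X.Modules} {V : X.Opens} (l : Sec L V) : Prop := IsLocBasis (fun _ : Fin 1 => l)

theorem IsGen.restrict {L : X.Modules} {V V' : X.Opens} {l : Sec L V} (hl : IsGen l) (h : V' ≤ V) :
    IsGen (res L h l) := IsLocBasis.restrict hl h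

theorem isGen_of_isLocBasis {L : X.Modules} {V : X.Opens} {κ : Type*} [Fintype κ] [Unique κ]
    {b : κ → Sec L V} (hb : IsLocBasis b) : IsGen (b default) := by
  have h := hb.reindex (Equiv.ofUnique (Fin 1) κ)
  have : (fun i => b ((Equiv.ofUnique (Fin 1) κ) i)) = fun _ : Fin 1 => b default := by
    funext i
    rw [Subsingleton.elim ((Equiv.ofUnique (Fin 1) κ) i) default]
  rw [this] at h
  exact h

/-- The linear equivalence `a ↦ a • l`. -/
noncomputable def IsGen.equiv {L : X.Modules} {V : X.Opens} {l : Sec L V} (hl : IsGen l) :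
    Γ(X, V) ≃ₗ[Γ(X, V)] Sec L V :=
  (LinearEquiv.funUnique (Fin 1) Γ(X, V) Γ(X, V)).symm ≪≫ₗ
    LinearEquiv.ofBijective (comb (fun _ : Fin 1 => l) le_rfl) (hl V le_rfl)

theorem IsGen.equiv_apply {L : X.Modules} {V : X.Opens} {l : Sec L V} (hl : IsGen l)
    (a : Γ(X, V)) : hl.equiv a = a • l := by
  change comb (fun _ : Fin 1 => l) le_rfl _ = _
  rw [comb_apply]
  simp

theorem isGen_of_bijective {L : X.Modules} {V : X.Opens} {l : Sec L V}
    (H : ∀ (V' : X.Opens) (h : V' ≤ V), Function.Bijective (fun a : Γ(X, V') => a • res L h l)) :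
    IsGen l := by
  intro V' h
  have : (comb (fun _ : Fin 1 => l) h : (Fin 1 → Γ(X, V')) → Sec L V') =
      (fun a : Γ(X, V') => a • res L h l) ∘ (LinearEquiv.funUnique (Fin 1) Γ(X, V') Γ(X, V')) := by
    funext a
    rw [comb_apply]
    simp
  rw [this]
  exact (H V' h).comp (LinearEquiv.bijective _)

theorem IsGen.exists_smul {L : X.Modules} {V : X.Opens} {l : Sec L V} (hl : IsGen l)
    (s : Sec L V) : ∃ a : Γ(X, V), s = a • l := by
  obtain ⟨a, ha⟩ := hl.equiv.surjective s
  exact ⟨a, by rw [← ha, hl.equiv_apply]⟩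

/-- Tensoring with a generator is bijective. -/
theorem IsGen.mulR_bijective {N L : X.Modules} {V : X.Opens} {κ : Type*} [Fintype κ]
    {b : κ → Sec N V} (hb : IsLocBasis b) {l : Sec L V} (hl : IsGen l) :
    Function.Bijective (mulR N L l) := by
  have h1 := tau_bijective hb hl (le_refl V)
  have h2 : Function.Bijective ((TensorProduct.mk Γ(X, V) (Sec N V) (Sec L V)).flip l) := by
    have : ((TensorProduct.mk Γ(X, V) (Sec N V) (Sec L V)).flip l : Sec N V → _) =
        (TensorProduct.rid Γ(X, V) (Sec N V)).symm ≪≫ₗ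
          (TensorProduct.congr (LinearEquiv.refl _ _) hl.equiv) := by
      funext n
      rw [LinearEquiv.trans_apply, TensorProduct.rid_symm_apply, TensorProduct.congr_tmul,
        hl.equiv_apply, one_smul]
      rfl
    rw [this]
    exact LinearEquiv.bijective _
  exact h1.comp h2

/-- Tensor powers of a section. -/
noncomputable def powSec {L : X.Modules} {V : X.Opens} (l : Sec L V) :
    ∀ n : ℕ, Sec (CohB1.tensorPow L n) V
  | 0 => one X V
  | n + 1 => mulR (CohB1.tensorPow L n) L l (powSec l n)

theorem powSec_zero {L : X.Modules} {V : X.Opens} (l : Sec L V) : powSec l 0 = one X V := rfl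

theorem powSec_succ {L : X.Modules} {V : X.Opens} (l : Sec L V) (n : ℕ) :
    powSec l (n + 1) = mulR (CohB1.tensorPow L n) L l (powSec l n) := rfl

theorem res_powSec {L : X.Modules} {V V' : X.Opens} (h : V' ≤ V) (l : Sec L V) (n : ℕ) :
    res _ h (powSec l n) = powSec (res L h l) n := by
  induction n with
  | zero => exact res_one X h
  | succ n ih =>
    rw [powSec_succ, powSec_succ, ← ih]
    exact res_mulR _ _ _ _ _

theorem powSec_smul {L : X.Modules} {V : X.Opens} (a : Γ(X, V)) (l : Sec L V) (n : ℕ) :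
    powSec (a • l) n = a ^ n • powSec l n := by
  induction n with
  | zero => rw [pow_zero, one_smul]; rfl
  | succ n ih =>
    rw [powSec_succ, powSec_succ, ih]
    refine (mulR_smul _ _ _ _ _).trans ?_
    rw [map_smul]
    refine (smul_smul _ _ _).trans ?_
    rw [pow_succ']
    rfl

theorem isGen_one : IsGen (L := Coh.structureModule X) (one X ⊤) := isLocBasis_one

theorem IsGen.tensor {M L : X.Modules} {V : X.Opens} {m : Sec M V} (hm : IsGen m) {l : Sec L V}
    (hl : IsGen l) : IsGen (mulR M L l m) := by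
  have h := isLocBasis_tensor hm hl
  have h2 := h.reindex (Equiv.uniqueProd (Fin 1) (Fin 1)).symm
  exact h2

theorem IsGen.powSec {L : X.Modules} {V : X.Opens} {l : Sec L V} (hl : IsGen l) (n : ℕ) :
    IsGen (powSec l n) := by
  induction n with
  | zero =>
    have := (isGen_one (X := X)).restrict (le_top : V ≤ ⊤)
    rw [res_one] at this
    exact this
  | succ n ih => exact ih.tensor hl

/-- Line bundles with generators having the same transition functions are isomorphic. -/
theorem nonempty_iso_of_gens {ι : Type*} {B : ι → X.Opens} (hB : Opens.IsBasis (Set.range B))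
    (M N : X.Modules) (m : ∀ i, Sec M (B i)) (n : ∀ i, Sec N (B i)) (hm : ∀ i, IsGen (m i))
    (hn : ∀ i, IsGen (n i))
    (H : ∀ i j (h : B j ≤ B i), ∃ a : Γ(X, B j), res M h (m i) = a • m j ∧ res N h (n i) = a • n j) :
    Nonempty (M ≅ N) := by
  refine nonempty_iso_of_family hB M N (fun i => (hm i).equiv.symm ≪≫ₗ (hn i).equiv) ?_
  have key : ∀ i (a : Γ(X, B i)), ((hm i).equiv.symm ≪≫ₗ (hn i).equiv) (a • m i) = a • n i := by
    intro i a
    rw [LinearEquiv.trans_apply, ← (hm i).equiv_apply, LinearEquiv.symm_apply_apply,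
      (hn i).equiv_apply]
  intro i j h s
  obtain ⟨c, rfl⟩ := (hm i).exists_smul s
  obtain ⟨a, h1, h2⟩ := H i j h
  rw [key, res_smul, res_smul, h1, h2, smul_smul, key, smul_smul]

/-- Functoriality of exterior powers for linear equivalences. -/
noncomputable def extEquiv {R M N : Type*} [CommRing R] [AddCommGroup M] [Module R M]
    [AddCommGroup N] [Module R N] (k : ℕ) (e : M ≃ₗ[R] N) : ⋀[R]^k M ≃ₗ[R] ⋀[R]^k N :=
  LinearEquiv.ofLinear (exteriorPower.map k e.toLinearMap) (exteriorPower.map k e.symm.toLinearMap)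
    (by rw [← exteriorPower.map_comp, LinearEquiv.comp_symm, exteriorPower.map_id])
    (by rw [← exteriorPower.map_comp, LinearEquiv.symm_comp, exteriorPower.map_id])

theorem extEquiv_ιMulti {R M N : Type*} [CommRing R] [AddCommGroup M] [Module R M]
    [AddCommGroup N] [Module R N] (k : ℕ) (e : M ≃ₗ[R] N) (m : Fin k → M) :
    extEquiv k e (exteriorPower.ιMulti R k m) = exteriorPower.ιMulti R k (fun i => e (m i)) :=
  exteriorPower.map_apply_ιMulti _ _

theorem extEquiv_symm_ιMulti {R M N : Type*} [CommRing R] [AddCommGroup M] [Module R M]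
    [AddCommGroup N] [Module R N] (k : ℕ) (e : M ≃ₗ[R] N) (m : Fin k → M) :
    (extEquiv k e).symm (exteriorPower.ιMulti R k (fun i => e (m i))) =
      exteriorPower.ιMulti R k m := by
  rw [← extEquiv_ιMulti, LinearEquiv.symm_apply_apply]

end K875.PowSec
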